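import Mathlib
import Groth.Agent.Lib.Helper4.ClBridge4
import Groth.Agent.Lib.Helper1.CounitLib
import Groth.Agent.Lib.Helper1.QcAbel
import Groth.Agent.Lib.Lead.BCU3
import Groth.Agent.Lib.Lead.PBQc

/-!
# Direct image along an affine morphism is full on `f_* O_X`-linear maps (helper5)
-/

set_option autoImplicit false
universe u
open CategoryTheory CategoryTheory.Limits AlgebraicGeometry TopologicalSpace Opposite
open AlgebraicGeometry.Scheme.Modules

namespace Groth.Agent.Lib.Helper5.DirImg

open Groth.Agent.Lead.BCU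

variable {X S : Scheme.{u}} (f : X ⟶ S)

section Adj

variable (F G : X.Modules)

/-- the counit evaluated on a unit section -/
theorem counit_app_unit_app (U : S.Opens) (m : Γ((pushforward f).obj F, U)) :
    ((pullbackPushforwardAdjunction f).counit.app F).app (f ⁻¹ᵁ U)
      (((pullbackPushforwardAdjunction f).unit.app ((pushforward f).obj F)).app U m) = m := by
  have h := (pullbackPushforwardAdjunction f).right_triangle_components F
  have h2 := congrArg (fun φ => (Scheme.Modules.Hom.app φ U) m) h
  exact h2

/-- the adjunct of `β : f_* F ⟶ f_* G` evaluated on a unit section -/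
theorem adjunct_app_unit_app (β : (pushforward f).obj F ⟶ (pushforward f).obj G)
    (U : S.Opens) (m : Γ((pushforward f).obj F, U)) :
    (((pullbackPushforwardAdjunction f).homEquiv _ _).symm β).app (f ⁻¹ᵁ U)
      (((pullbackPushforwardAdjunction f).unit.app ((pushforward f).obj F)).app U m) =
      β.app U m := by
  have h : (pullbackPushforwardAdjunction f).unit.app ((pushforward f).obj F) ≫
      (pushforward f).map (((pullbackPushforwardAdjunction f).homEquiv _ _).symm β) = β := by
    have h0 := Equiv.apply_symm_apply ((pullbackPushforwardAdjunction f).homEquiv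
      ((pushforward f).obj F) G) β
    rw [Adjunction.homEquiv_unit] at h0
    exact h0
  have h2 := congrArg (fun φ => (Scheme.Modules.Hom.app φ U) m) h
  exact h2

end Adj

section Main

variable [IsAffineHom f] (F G : X.Modules) [F.IsQuasicoherent]

/-- **key**: the adjunct of a `f_* O_X`-linear `β` factors through the counit on sections over
preimages of affine opens -/
theorem adjunct_app_eq (β : (pushforward f).obj F ⟶ (pushforward f).obj G)
    (hβ : ∀ (U : S.Opens), IsAffineOpen U → ∀ (b : Γ(X, f ⁻¹ᵁ U)) (m : Γ(F, f ⁻¹ᵁ U)),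
      β.app U (show Γ((pushforward f).obj F, U) from b • m) =
        (show Γ((pushforward f).obj G, U) from
          b • (show Γ(G, f ⁻¹ᵁ U) from β.app U (show Γ((pushforward f).obj F, U) from m))))
    (U : S.Opens) (hU : IsAffineOpen U)
    (k : Γ((Scheme.Modules.pullback f).obj ((pushforward f).obj F), f ⁻¹ᵁ U)) :
    (((pullbackPushforwardAdjunction f).homEquiv _ _).symm β).app (f ⁻¹ᵁ U) k =
      β.app U (show Γ((pushforward f).obj F, U) from
        ((pullbackPushforwardAdjunction f).counit.app F).app (f ⁻¹ᵁ U) k) := by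
  haveI : ((pushforward f).obj F).IsQuasicoherent :=
    Groth.Agent.Helper1.PushQc.isQuasicoherent_pushforward f F
  have hV : IsAffineOpen (f ⁻¹ᵁ U) := hU.preimage f
  letI := (f.appLE U (f ⁻¹ᵁ U) (le_refl (f ⁻¹ᵁ U))).hom.toAlgebra
  letI : Module Γ(S, U)
      Γ((Scheme.Modules.pullback f).obj ((pushforward f).obj F), f ⁻¹ᵁ U) :=
    Module.compHom _ (f.appLE U (f ⁻¹ᵁ U) (le_refl (f ⁻¹ᵁ U))).hom
  haveI : IsScalarTower Γ(S, U) Γ(X, f ⁻¹ᵁ U)
      Γ((Scheme.Modules.pullback f).obj ((pushforward f).obj F), f ⁻¹ᵁ U) :=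
    IsScalarTower.of_compHom _ _ _
  obtain ⟨l', hl', hbc⟩ := isBC_unitRes f ((pushforward f).obj F) hU hV (le_refl (f ⁻¹ᵁ U))
  refine hbc.inductionOn k (fun k =>
    (((pullbackPushforwardAdjunction f).homEquiv _ _).symm β).app (f ⁻¹ᵁ U) k =
      β.app U (show Γ((pushforward f).obj F, U) from
        ((pullbackPushforwardAdjunction f).counit.app F).app (f ⁻¹ᵁ U) k)) ?_ ?_ ?_ ?_
  · simp only [map_zero]
    exact (map_zero (β.app U).hom).symm
  · intro m
    rw [hl' m]
    have e1 : unitRes f ((pushforward f).obj F) (le_refl (f ⁻¹ᵁ U)) m =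
        ((pullbackPushforwardAdjunction f).unit.app ((pushforward f).obj F)).app U m := by
      unfold unitRes res
      have h1 : ((Scheme.Modules.pullback f).obj ((pushforward f).obj F)).presheaf.map
          (homOfLE (le_refl (f ⁻¹ᵁ U))).op = 𝟙 _ :=
        ((Scheme.Modules.pullback f).obj ((pushforward f).obj F)).presheaf.map_id _
      rw [h1]
      rfl
    rw [e1, adjunct_app_unit_app, counit_app_unit_app]
  · intro b n hn
    rw [Scheme.Modules.Hom.app_smul, Scheme.Modules.Hom.app_smul, hn]
    exact (hβ U hU b _).symm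
  · intro n₁ n₂ h₁ h₂
    rw [map_add, map_add, h₁, h₂]
    exact (map_add (β.app U).hom _ _).symm

/-- **fullness over `O_S`**: a morphism `f_* F ⟶ f_* G` that is linear over the functions on the
preimages of affine opens is the direct image of a morphism `F ⟶ G` -/
theorem exists_hom_of_linear (β : (pushforward f).obj F ⟶ (pushforward f).obj G)
    (hβ : ∀ (U : S.Opens), IsAffineOpen U → ∀ (b : Γ(X, f ⁻¹ᵁ U)) (m : Γ(F, f ⁻¹ᵁ U)),
      β.app U (show Γ((pushforward f).obj F, U) from b • m) =
        (show Γ((pushforward f).obj G, U) from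
          b • (show Γ(G, f ⁻¹ᵁ U) from β.app U (show Γ((pushforward f).obj F, U) from m)))) :
    ∃ φ : F ⟶ G, (pushforward f).map φ = β := by
  let adj := pullbackPushforwardAdjunction f
  let β' := (adj.homEquiv ((pushforward f).obj F) G).symm β
  haveI hε : Epi (adj.counit.app F) :=
    Groth.Agent.Lib.Helper4.ClBridge4.epi_counit_of_isAffineHom f F
  haveI : ((pushforward f).obj F).IsQuasicoherent :=
    Groth.Agent.Helper1.PushQc.isQuasicoherent_pushforward f F
  haveI : ((Scheme.Modules.pullback f).obj ((pushforward f).obj F)).IsQuasicoherent :=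
    Groth.Agent.Lead.PB.isQuasicoherent_pullback f _
  haveI : ((pushforward f ⋙ Scheme.Modules.pullback f).obj F).IsQuasicoherent :=
    ‹((Scheme.Modules.pullback f).obj ((pushforward f).obj F)).IsQuasicoherent›
  haveI : ((𝟭 X.Modules).obj F).IsQuasicoherent := ‹F.IsQuasicoherent›
  haveI : (kernel (adj.counit.app F)).IsQuasicoherent :=
    Groth.Agent.Helper1.QcAbel.isQuasicoherent_kernel (adj.counit.app F)
  haveI hεK : Epi (adj.counit.app (kernel (adj.counit.app F))) :=
    Groth.Agent.Lib.Helper4.ClBridge4.epi_counit_of_isAffineHom f _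
  have hz : kernel.ι (adj.counit.app F) ≫ β' = 0 := by
    apply (Groth.Agent.Helper1.CounitLib.epi_counit_iff' f _).1 hεK
    intro U hU t
    show β'.app (f ⁻¹ᵁ U) ((kernel.ι (adj.counit.app F)).app (f ⁻¹ᵁ U) t) = 0
    rw [adjunct_app_eq f F G β hβ U hU]
    have h0 : (adj.counit.app F).app (f ⁻¹ᵁ U) ((kernel.ι (adj.counit.app F)).app (f ⁻¹ᵁ U) t) = 0 := by
      have := congrArg (fun φ => (Scheme.Modules.Hom.app φ (f ⁻¹ᵁ U)) t)
        (kernel.condition (adj.counit.app F))
      exact this
    rw [h0]
    exact map_zero (β.app U).hom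
  refine ⟨Abelian.epiDesc (adj.counit.app F) β' hz, ?_⟩
  have h1 : adj.counit.app F ≫ Abelian.epiDesc (adj.counit.app F) β' hz = β' :=
    Abelian.comp_epiDesc _ _ _
  apply (adj.homEquiv ((pushforward f).obj F) G).symm.injective
  rw [Adjunction.homEquiv_counit]
  have h2 := adj.counit.naturality (Abelian.epiDesc (adj.counit.app F) β' hz)
  exact h2.trans h1

/-- **faithfulness**: the direct image along an affine morphism is injective on morphisms out of a
quasi-coherent module -/
theorem pushforward_map_injective :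
    Function.Injective ((pushforward f).map : (F ⟶ G) → _) := by
  intro φ ψ h
  have hε := Groth.Agent.Lib.Helper4.ClBridge4.epi_counit_of_isAffineHom f F
  have h1 := (Groth.Agent.Helper1.CounitLib.epi_counit_iff f F).1 hε G (φ - ψ)
    (by rw [Functor.map_sub, h, sub_self])
  exact sub_eq_zero.mp h1

end Main

end Groth.Agent.Lib.Helper5.DirImg
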