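import Mathlib
import Groth.Prelude.Def_RelSpec2
import Groth.Agent.Lib.Helper5.DirImg.Full

/-!
# `AMod.dirImg` is fully faithful on quasi-coherent modules for an affine morphism (helper5)
-/

set_option autoImplicit false
universe u
open CategoryTheory CategoryTheory.Limits AlgebraicGeometry TopologicalSpace Opposite
open AlgebraicGeometry.Scheme.Modules

namespace Groth.Agent.Lib.Helper5.DirImg

variable {X S : Scheme.{u}} (f : X ⟶ S) [IsAffineHom f]

/-- `toOS` is faithful -/
theorem toOS_map_injective (B : RelSpec.QCAlg S) {M N : AMod B} :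
    Function.Injective ((AMod.toOS B).map : (M ⟶ N) → _) := by
  intro α α' h
  apply SheafOfModules.hom_ext
  have h1 := congrArg SheafOfModules.Hom.val h
  exact (PresheafOfModules.restrictScalars (AMod.strHom B).hom).map_injective h1

theorem toOS_map_dirImg_map {F G : X.Modules} (φ : F ⟶ G) :
    (AMod.toOS (RelSpec.QCAlg.directImage f)).map ((AMod.dirImg f).map φ) =
      (pushforward f).map φ := rfl

theorem dirImg_map_bijective (F G : X.Modules) [F.IsQuasicoherent] :
    Function.Bijective
      ((AMod.dirImg f).map : (F ⟶ G) → ((AMod.dirImg f).obj F ⟶ (AMod.dirImg f).obj G)) := by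
  constructor
  · intro φ ψ h
    apply pushforward_map_injective f F G
    rw [← toOS_map_dirImg_map, ← toOS_map_dirImg_map, h]
  · intro α
    let β : (pushforward f).obj F ⟶ (pushforward f).obj G :=
      (AMod.toOS (RelSpec.QCAlg.directImage f)).map α
    obtain ⟨φ, hφ⟩ := exists_hom_of_linear f F G β (by
      intro U hU b m
      exact (α.val.app (op U)).hom.map_smul
        (show ((AMod.ringSheaf (RelSpec.QCAlg.directImage f)).obj.obj (op U) : Type u) from b)
        (show (((AMod.dirImg f).obj F).val.obj (op U) : Type u) from m))
    refine ⟨φ, ?_⟩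
    apply toOS_map_injective
    rw [toOS_map_dirImg_map]
    exact hφ

end Groth.Agent.Lib.Helper5.DirImg
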