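import Mathlib
import Groth.Prelude.Def_RelSpec2

/-!
# Sections over affine opens preserve colimits of quasi-coherent diagrams (helper5)
-/

set_option autoImplicit false
universe u
open CategoryTheory CategoryTheory.Limits AlgebraicGeometry TopologicalSpace Opposite

namespace Groth.Agent.Lib.Helper5.DirImg

section Spec

variable {R : CommRingCat.{u}} {J : Type u} [SmallCategory J]

/-- on `Spec R`, global sections preserve colimits of pointwise quasi-coherent diagrams -/
theorem preservesColimit_moduleSpecΓFunctor (D : J ⥤ (Spec R).Modules)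
    (hD : ∀ j, (D.obj j).IsQuasicoherent) :
    PreservesColimit D (moduleSpecΓFunctor (R := R)) := by
  let T := tilde.functor R
  let G := moduleSpecΓFunctor (R := R)
  let adj := tilde.adjunction (R := R)
  haveI : ∀ j, IsIso (adj.counit.app (D.obj j)) := fun j => by
    haveI := hD j
    exact inferInstanceAs (IsIso (D.obj j).fromTildeΓ)
  let e : (D ⋙ G) ⋙ T ≅ D :=
    NatIso.ofComponents (fun j => asIso (adj.counit.app (D.obj j)))
      (fun {j j'} g => adj.counit.naturality (D.map g))
  haveI : PreservesColimit ((D ⋙ G) ⋙ T) G := by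
    apply preservesColimit_of_preserves_colimit_cocone
      (isColimitOfPreserves T (colimit.isColimit (D ⋙ G)))
    haveI : PreservesColimit (D ⋙ G) (T ⋙ G) :=
      preservesColimit_of_natIso _ (asIso adj.unit)
    exact isColimitOfPreserves (T ⋙ G) (colimit.isColimit (D ⋙ G))
  exact preservesColimit_of_iso_diagram G e

end Spec

section Affine

variable {X : Scheme.{u}}

/-- sections over an open, as a functor to abelian groups -/
noncomputable def ΓAb (U : X.Opens) : X.Modules ⥤ AddCommGrpCat.{u} :=
  SheafOfModules.evaluation X.ringCatSheaf (op U) ⋙ forget₂ (ModuleCat _) AddCommGrpCat.{u}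

theorem ΓAb_obj (U : X.Opens) (M : X.Modules) : (ΓAb U).obj M = M.presheaf.obj (op U) := rfl

noncomputable def ΓAbIso {U : X.Opens} (hU : IsAffineOpen U) :
    ΓAb (hU.fromSpec ''ᵁ ⊤) ≅
      Scheme.Modules.restrictFunctor hU.fromSpec ⋙ moduleSpecΓFunctor (R := Γ(X, U)) ⋙
        forget₂ (ModuleCat _) AddCommGrpCat.{u} :=
  NatIso.ofComponents (fun M => Iso.refl _) (by intros; rfl)

end Affine

end Groth.Agent.Lib.Helper5.DirImg
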