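import Mathlib
import Groth.Prelude.Def_RelSpec2
import Groth.Agent.Lib.Helper5.DirImg.ColimSpec
import Groth.Agent.Lib.Helper1.QcLoc
import Groth.Agent.Lib.Helper1.PF7
import Groth.Agent.Lib.Helper1.PushQc
import Groth.Agent.Lib.Helper3.QcSum3

/-!
# Direct image along an affine morphism preserves colimits of quasi-coherent diagrams (helper5)
-/

set_option autoImplicit false
universe u
open CategoryTheory CategoryTheory.Limits AlgebraicGeometry TopologicalSpace Opposite

namespace Groth.Agent.Lib.Helper5.DirImg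

section General

universe v₁ v₂ v₃ u₁ u₂ u₃

variable {A : Type u₁} [Category.{v₁} A] {B : Type u₂} [Category.{v₂} B]
  {J : Type u₃} [Category.{v₃} J]

/-- if `G` sends two cocones to colimit cocones, it inverts the comparison map between them -/
theorem isIso_map_desc (G : A ⥤ B) {D' : J ⥤ A} {c₁ c₂ : Cocone D'} (h₁ : IsColimit c₁)
    (hG₁ : IsColimit (G.mapCocone c₁)) (hG₂ : IsColimit (G.mapCocone c₂)) :
    IsIso (G.map (h₁.desc c₂)) := by
  have : G.map (h₁.desc c₂) = (hG₁.coconePointUniqueUpToIso hG₂).hom := by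
    apply hG₁.hom_ext
    intro j
    rw [IsColimit.comp_coconePointUniqueUpToIso_hom]
    change G.map (c₁.ι.app j) ≫ G.map _ = G.map (c₂.ι.app j)
    rw [← G.map_comp, h₁.fac]
  rw [this]
  infer_instance

end General

variable {X : Scheme.{u}}

/-- sections over an affine open preserve colimits of pointwise quasi-coherent diagrams -/
theorem preservesColimit_ΓAb {U : X.Opens} (hU : IsAffineOpen U) {J : Type u} [SmallCategory J]
    (D : J ⥤ X.Modules) (hD : ∀ j, (D.obj j).IsQuasicoherent) :
    PreservesColimit D (ΓAb U) := by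
  have e0 : hU.fromSpec ''ᵁ ⊤ = U := Groth.Agent.Helper1.QcLoc.image_top hU
  suffices h : PreservesColimit D (ΓAb (hU.fromSpec ''ᵁ ⊤)) by
    rw [e0] at h
    exact h
  haveI i1 : PreservesColimit D (Scheme.Modules.restrictFunctor hU.fromSpec) := inferInstance
  haveI i2 : PreservesColimit (D ⋙ Scheme.Modules.restrictFunctor hU.fromSpec)
      (moduleSpecΓFunctor (R := Γ(X, U))) :=
    preservesColimit_moduleSpecΓFunctor _ (fun j => by
      haveI := hD j
      exact inferInstanceAs
        (((Scheme.Modules.restrictFunctor hU.fromSpec).obj (D.obj j)).IsQuasicoherent))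
  haveI i3 : PreservesColimit (D ⋙ Scheme.Modules.restrictFunctor hU.fromSpec)
      (moduleSpecΓFunctor (R := Γ(X, U)) ⋙ forget₂ (ModuleCat _) AddCommGrpCat.{u}) :=
    inferInstance
  haveI i4 : PreservesColimit D (Scheme.Modules.restrictFunctor hU.fromSpec ⋙
      moduleSpecΓFunctor (R := Γ(X, U)) ⋙ forget₂ (ModuleCat _) AddCommGrpCat.{u}) :=
    inferInstance
  exact preservesColimit_of_natIso D (ΓAbIso hU).symm

theorem ΓAb_map_apply {U : X.Opens} {M N : X.Modules} (φ : M ⟶ N) (t : Γ(M, U)) :
    ((ΓAb U).map φ).hom t = φ.app U t := rfl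

/-- a morphism of modules which is bijective on sections over all affine opens is an
isomorphism -/
theorem isIso_of_bijective_affine {M N : X.Modules} (φ : M ⟶ N)
    (h : ∀ U : X.Opens, IsAffineOpen U → Function.Bijective (φ.app U)) : IsIso φ := by
  have nat : ∀ {U V : X.Opens} (hVU : V ≤ U) (t : Γ(M, U)),
      φ.app V (M.presheaf.map (homOfLE hVU).op t) = N.presheaf.map (homOfLE hVU).op (φ.app U t) := by
    intro U V hVU t
    have := congrArg (fun g => g.hom t) (φ.mapPresheaf.naturality (homOfLE hVU).op)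
    exact this
  have key : ∀ (U : X.Opens) (x : X), x ∈ U → ∃ (V : X.Opens) (_ : V ≤ U), x ∈ V ∧
      IsAffineOpen V := by
    intro U x hx
    obtain ⟨_, ⟨V, hV, rfl⟩, hxV, hVU⟩ :=
      X.isBasis_affineOpens.exists_subset_of_mem_open hx U.isOpen
    exact ⟨V, hVU, hxV, hV⟩
  refine Groth.Agent.Helper1.PF7.isIso_of_locally φ ?_ ?_
  · intro U t ht x hx
    obtain ⟨V, hV, hxV, hVa⟩ := key U x hx
    refine ⟨V, hV, hxV, (h V hVa).1 ?_⟩
    rw [nat, ht, map_zero, map_zero]
  · intro U σ x hx
    obtain ⟨V, hV, hxV, hVa⟩ := key U x hx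
    obtain ⟨t, ht⟩ := (h V hVa).2 (N.presheaf.map (homOfLE hV).op σ)
    exact ⟨V, hV, hxV, t, ht⟩

variable {S : Scheme.{u}} (f : X ⟶ S) [IsAffineHom f]

/-- the direct image along an affine morphism preserves colimits of pointwise quasi-coherent
diagrams -/
theorem preservesColimit_pushforward {J : Type u} [SmallCategory J]
    (D : J ⥤ X.Modules) (hD : ∀ j, (D.obj j).IsQuasicoherent) :
    PreservesColimit D (Scheme.Modules.pushforward f) := by
  let P := Scheme.Modules.pushforward f
  suffices h : IsIso (colimit.post D P) from preservesColimit_of_isIso_post P D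
  apply isIso_of_bijective_affine
  intro V hV
  have hV' : IsAffineOpen (f ⁻¹ᵁ V) := hV.preimage f
  have hD' : ∀ j, ((D ⋙ P).obj j).IsQuasicoherent := fun j => by
    haveI := hD j
    exact Groth.Agent.Helper1.PushQc.isQuasicoherent_pushforward f (D.obj j)
  haveI h1 : PreservesColimit (D ⋙ P) (ΓAb V) := preservesColimit_ΓAb hV (D ⋙ P) hD'
  haveI h2 : PreservesColimit D (ΓAb (f ⁻¹ᵁ V)) := preservesColimit_ΓAb hV' D hD
  have hG₁ : IsColimit ((ΓAb V).mapCocone (colimit.cocone (D ⋙ P))) :=
    isColimitOfPreserves (ΓAb V) (colimit.isColimit (D ⋙ P))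
  have hG₂ : IsColimit ((ΓAb V).mapCocone (P.mapCocone (colimit.cocone D))) := by
    have := isColimitOfPreserves (ΓAb (f ⁻¹ᵁ V)) (colimit.isColimit D)
    exact this
  have hiso : IsIso ((ΓAb V).map (colimit.post D P)) :=
    isIso_map_desc (ΓAb V) (colimit.isColimit (D ⋙ P)) hG₁ hG₂
  have hb := (ConcreteCategory.isIso_iff_bijective _).1 hiso
  exact hb

end Groth.Agent.Lib.Helper5.DirImg
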