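import Mathlib
import Groth.Prelude.Def_RelSpec2
import Groth.Agent.Lib.Helper5.DirImg.Colim

/-!
# `AMod.dirImg` preserves colimits of quasi-coherent diagrams (helper5)
-/

set_option autoImplicit false
universe u
open CategoryTheory CategoryTheory.Limits AlgebraicGeometry TopologicalSpace Opposite

namespace Groth.Agent.Lib.Helper5.DirImg

variable {X S : Scheme.{u}} (f : X ⟶ S) [IsAffineHom f]

theorem preservesColimit_dirImg {J : Type u} [SmallCategory J]
    (D : J ⥤ X.Modules) (hD : ∀ j, (D.obj j).IsQuasicoherent) :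
    PreservesColimit D (AMod.dirImg f) := by
  let T_B := SheafOfModules.toSheaf.{u} (AMod.ringSheaf (RelSpec.QCAlg.directImage f))
  let T_S := SheafOfModules.toSheaf.{u} S.ringCatSheaf
  haveI : PreservesColimit D (Scheme.Modules.pushforward f) := preservesColimit_pushforward f D hD
  haveI i1 : PreservesColimitsOfShape J T_S :=
    Groth.Agent.Helper3.QcSum.toSheaf_preservesColimitsOfShape S.ringCatSheaf J
  haveI i2 : PreservesColimitsOfShape J T_B :=
    Groth.Agent.Helper3.QcSum.toSheaf_preservesColimitsOfShape
      (AMod.ringSheaf (RelSpec.QCAlg.directImage f)) J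
  haveI i3 : PreservesColimit (D ⋙ Scheme.Modules.pushforward f) T_S :=
    i1.preservesColimit
  haveI h1 : PreservesColimit D (Scheme.Modules.pushforward f ⋙ T_S) := inferInstance
  haveI h2 : PreservesColimit D (AMod.dirImg f ⋙ T_B) := h1
  haveI i4 : PreservesColimit (D ⋙ AMod.dirImg f) T_B :=
    i2.preservesColimit
  haveI : T_B.ReflectsIsomorphisms :=
    inferInstanceAs (SheafOfModules.toSheaf.{u}
      (AMod.ringSheaf (RelSpec.QCAlg.directImage f))).ReflectsIsomorphisms
  haveI : ReflectsColimit (D ⋙ AMod.dirImg f) T_B := reflectsColimit_of_reflectsIsomorphisms _ _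
  exact preservesColimit_of_reflects_of_preserves (AMod.dirImg f) T_B

end Groth.Agent.Lib.Helper5.DirImg
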