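import Mathlib
import Groth.Prelude.Def_RelSpec2
import Groth.Agent.Lib.Helper5.SiteGen.Top
import Groth.Agent.Lib.Helper1.FinPush
import Groth.Agent.Lib.Helper1.QcLoc

/-!
# Finite type and direct image under an affine morphism (helper5)

For `f : X ⟶ S` affine and `F` quasi-coherent on `X`: `F` is of finite type iff `f_* F` is of
finite type over `f_* O_X`.
-/

set_option autoImplicit false
universe u
open CategoryTheory CategoryTheory.Limits AlgebraicGeometry TopologicalSpace Opposite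
open Groth.Agent.Lib.Helper5.SiteGen

namespace Groth.Agent.Lib.Helper5.DirImg

section General

variable {C : Type u} [Category.{u} C] {J : GrothendieckTopology C} {R : Sheaf J RingCat.{u}}
  (M : SheafOfModules.{u} R)

/-- restriction preserves membership in spans -/
theorem res_mem_span {Y Z : C} (g : Z ⟶ Y) {ι : Type*} (τ : ι → M.val.obj (op Y))
    {t : M.val.obj (op Y)} (ht : t ∈ Submodule.span (R.obj.obj (op Y)) (Set.range τ)) :
    res M g t ∈ Submodule.span (R.obj.obj (op Z)) (Set.range fun j => res M g (τ j)) := by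
  induction ht using Submodule.span_induction with
  | mem x hx =>
    obtain ⟨j, rfl⟩ := hx
    exact Submodule.subset_span ⟨j, rfl⟩
  | zero => rw [map_zero]; exact Submodule.zero_mem _
  | add x y _ _ hx hy => rw [map_add]; exact Submodule.add_mem _ hx hy
  | smul r x _ hx => rw [res_smul]; exact Submodule.smul_mem _ _ hx

end General

section XSide

variable {X : Scheme.{u}} (F : X.Modules)

/-- restriction along an inclusion of opens, on the `X`-side -/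
noncomputable abbrev rs {U V : X.Opens} (h : V ≤ U) : Γ(F, U) →+ Γ(F, V) :=
  res (R := X.ringCatSheaf) F (homOfLE h)

theorem rs_rs {U V W : X.Opens} (h₁ : V ≤ U) (h₂ : W ≤ V) (t : Γ(F, U)) :
    rs F h₂ (rs F h₁ t) = rs F (h₂.trans h₁) t :=
  res_comp (R := X.ringCatSheaf) F (homOfLE h₁) (homOfLE h₂) t

theorem rs_eq_map {U V : X.Opens} (h : V ≤ U) (t : Γ(F, U)) :
    rs F h t = F.presheaf.map (homOfLE h).op t := rfl

theorem rs_smul {U V : X.Opens} (h : V ≤ U) (r : Γ(X, U)) (t : Γ(F, U)) :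
    rs F h (r • t) = (X.presheaf.map (homOfLE h).op).hom r • rs F h t :=
  res_smul (R := X.ringCatSheaf) F (homOfLE h) r t

theorem rs_mem_span {U V : X.Opens} (h : V ≤ U) {ι : Type*} (τ : ι → Γ(F, U)) {t : Γ(F, U)}
    (ht : t ∈ Submodule.span Γ(X, U) (Set.range τ)) :
    rs F h t ∈ Submodule.span Γ(X, V) (Set.range fun j => rs F h (τ j)) :=
  res_mem_span (R := X.ringCatSheaf) F (homOfLE h) τ ht

theorem mem_span_of_isUnit_smul {W : X.Opens} {ι : Type*} (τ : ι → Γ(F, W)) (u : Γ(X, W))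
    (hu : IsUnit u) (t : Γ(F, W)) (h : u • t ∈ Submodule.span Γ(X, W) (Set.range τ)) :
    t ∈ Submodule.span Γ(X, W) (Set.range τ) := by
  obtain ⟨v, rfl⟩ := hu
  have : t = (↑v⁻¹ : Γ(X, W)) • ((v : Γ(X, W)) • t) := by
    rw [smul_smul, Units.inv_mul, one_smul]
  rw [this]
  exact Submodule.smul_mem _ _ h

variable [F.IsQuasicoherent]

/-- the key local statement on an affine open -/
theorem mem_span_basicOpen {U : X.Opens} (hU : IsAffineOpen U)
    {n : ℕ} (σ : Fin n → Γ(F, U)) (hσ : Submodule.span Γ(X, U) (Set.range σ) = ⊤)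
    (h : Γ(X, U)) (t : Γ(F, X.basicOpen h)) :
    t ∈ Submodule.span Γ(X, X.basicOpen h)
      (Set.range fun j => rs F (X.basicOpen_le h) (σ j)) := by
  obtain ⟨k, m, hm⟩ := Groth.Agent.Helper1.QcLoc.exists_extend hU F h t
  have hu : IsUnit ((X.presheaf.map (homOfLE (X.basicOpen_le h)).op).hom h) :=
    X.toRingedSpace.isUnit_res_basicOpen h
  have hm' : m ∈ Submodule.span Γ(X, U) (Set.range σ) := hσ ▸ Submodule.mem_top
  have h2 := rs_mem_span F (X.basicOpen_le h) σ hm'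
  rw [rs_eq_map, hm] at h2
  exact mem_span_of_isUnit_smul F _ _ (hu.pow k) t h2

theorem mem_span_basicOpen' {U : X.Opens} (hU : IsAffineOpen U)
    {n : ℕ} (σ : Fin n → Γ(F, U)) (hσ : Submodule.span Γ(X, U) (Set.range σ) = ⊤)
    (h : Γ(X, U)) (W : X.Opens) (e : W = X.basicOpen h) (hW : W ≤ U) (t : Γ(F, W)) :
    t ∈ Submodule.span Γ(X, W) (Set.range fun j => rs F hW (σ j)) := by
  subst e
  exact mem_span_basicOpen F hU σ hσ h t

end XSide

variable {X S : Scheme.{u}} (f : X ⟶ S) [IsAffineHom f]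

theorem locSpan_dirImg_of_isFiniteType (F : X.Modules) [hQC : F.IsQuasicoherent]
    (hFT : SheafOfModules.IsFiniteType.{u} (R := X.ringCatSheaf) F) :
    LocSpan (R := AMod.ringSheaf (RelSpec.QCAlg.directImage f)) ((AMod.dirImg f).obj F) := by
  intro s
  obtain ⟨U, hU, hsU⟩ : ∃ U : S.Opens, IsAffineOpen U ∧ s ∈ U := by
    obtain ⟨_, ⟨U, hU, rfl⟩, hs, -⟩ :=
      S.isBasis_affineOpens.exists_subset_of_mem_open (Set.mem_univ s) isOpen_univ
    exact ⟨U, hU, hs⟩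
  have hU' : IsAffineOpen (f ⁻¹ᵁ U) := hU.preimage f
  haveI hfin : Module.Finite Γ(X, f ⁻¹ᵁ U) Γ(F, f ⁻¹ᵁ U) :=
    Groth.Agent.Helper1.FinPush.finite_sections F ⟨hQC, hFT⟩ hU'
  obtain ⟨n, σ, hσ⟩ := Module.Finite.exists_fin (R := Γ(X, f ⁻¹ᵁ U)) (M := Γ(F, f ⁻¹ᵁ U))
  refine ⟨U, hsU, n, σ, ?_⟩
  intro V hV t y hy
  obtain ⟨g, hgV, hyg⟩ := hU.exists_basicOpen_le ⟨y, hy⟩ (hV hy)
  refine ⟨S.basicOpen g, hgV, hyg, ?_⟩
  have e : f ⁻¹ᵁ S.basicOpen g = X.basicOpen (f.app U g) := f.preimage_basicOpen g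
  exact mem_span_basicOpen' F hU' σ hσ (f.app U g) (f ⁻¹ᵁ S.basicOpen g) e
    (f.preimage_mono (hgV.trans hV)) (rs F (f.preimage_mono hgV) t)

theorem locSpan_of_locSpan_dirImg (F : X.Modules) [F.IsQuasicoherent]
    (h : LocSpan (R := AMod.ringSheaf (RelSpec.QCAlg.directImage f)) ((AMod.dirImg f).obj F)) :
    LocSpan (R := X.ringCatSheaf) F := by
  intro x
  obtain ⟨U, hxU, n, σ, hσ⟩ := h (f.base x)
  refine ⟨f ⁻¹ᵁ U, hxU, n, σ, ?_⟩
  intro V' hV' t y' hy'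
  obtain ⟨U₁, hU₁, hyU₁, hU₁U⟩ : ∃ U₁ : S.Opens, IsAffineOpen U₁ ∧ f.base y' ∈ U₁ ∧ U₁ ≤ U := by
    obtain ⟨_, ⟨U₁, hU₁, rfl⟩, hy, hle⟩ :=
      S.isBasis_affineOpens.exists_subset_of_mem_open (hV' hy' : f.base y' ∈ U) U.isOpen
    exact ⟨U₁, hU₁, hy, hle⟩
  have hU₁' : IsAffineOpen (f ⁻¹ᵁ U₁) := hU₁.preimage f
  obtain ⟨a, haV, hya⟩ := hU₁'.exists_basicOpen_le (V := V' ⊓ f ⁻¹ᵁ U₁) ⟨y', ⟨hy', hyU₁⟩⟩ hyU₁
  have haV' : X.basicOpen a ≤ V' := haV.trans inf_le_left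
  obtain ⟨k, m, hm⟩ := Groth.Agent.Helper1.QcLoc.exists_extend hU₁' F a (rs F haV' t)
  obtain ⟨W, hW, hyW, hspan⟩ := hσ U₁ hU₁U m (f.base y') hyU₁
  have hspan' : rs F (f.preimage_mono hW) m ∈ Submodule.span Γ(X, f ⁻¹ᵁ W)
      (Set.range fun j => rs F (f.preimage_mono (hW.trans hU₁U)) (σ j)) := hspan
  have hW'1 : f ⁻¹ᵁ W ⊓ X.basicOpen a ≤ f ⁻¹ᵁ W := inf_le_left
  have hW'2 : f ⁻¹ᵁ W ⊓ X.basicOpen a ≤ X.basicOpen a := inf_le_right
  refine ⟨f ⁻¹ᵁ W ⊓ X.basicOpen a, hW'2.trans haV', ⟨hyW, hya⟩, ?_⟩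
  have h1 := rs_mem_span F hW'1 _ hspan'
  rw [rs_rs] at h1
  simp only [rs_rs] at h1
  have h2 : rs F (hW'1.trans (f.preimage_mono hW)) m =
      ((X.presheaf.map (homOfLE (hW'2.trans (X.basicOpen_le a))).op).hom a) ^ k •
        rs F (hW'2.trans haV') t := by
    have h3 : rs F (hW'1.trans (f.preimage_mono hW)) m = rs F hW'2 (rs F (X.basicOpen_le a) m) := by
      rw [rs_rs]
    rw [h3, rs_eq_map F (X.basicOpen_le a), hm, rs_smul, rs_rs, map_pow]
    congr 2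
    rw [← CommRingCat.comp_apply, ← Functor.map_comp]
    rfl
  rw [h2] at h1
  have hu : IsUnit ((X.presheaf.map (homOfLE (hW'2.trans (X.basicOpen_le a))).op).hom a) := by
    have hu0 : IsUnit ((X.presheaf.map (homOfLE (X.basicOpen_le a)).op).hom a) :=
      X.toRingedSpace.isUnit_res_basicOpen a
    have := hu0.map (X.presheaf.map (homOfLE hW'2).op).hom
    rw [← CommRingCat.comp_apply, ← Functor.map_comp] at this
    exact this
  exact mem_span_of_isUnit_smul F _ _ (hu.pow k) _ h1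

end Groth.Agent.Lib.Helper5.DirImg
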